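import Cfsg.Agent.Lib.Schur.Tits.Check2
import Cfsg.Agent.Lib.Schur.Tits.Check3
import Cfsg.Agent.Lib.Schur.Tits.Check5

/-!
The multiplier of the Tits group is trivial.
-/

set_option autoImplicit false
set_option maxRecDepth 100000

namespace CfsgLib.Schur.Sporadic.Tits

open CfsgLib.Sporadic.OutCert

theorem ord_ne : ¬ ∀ i : Fin 1755, lk 11 (ordK.getD 0 (oneK 11 1755)) i = ((1 : Equiv.Perm (Fin 1755)) i : ℕ) := by
  intro h
  exact absurd (h 0) (by decide +kernel) 

attribute [local irreducible] lk pkF allF compK slpTab2 slpTab3 slpTab5 kk2 kk3 kk5 gk2 gk3 gk5 ordK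

theorem psi_injective : Function.Injective psi := by
  haveI := isSimple_T
  rw [← MonoidHom.ker_eq_bot_iff]
  refine psi.normal_ker.eq_bot_or_eq_top.resolve_right fun htop => ?_
  obtain ⟨q, hq⟩ := Tails.exists_pick psi hw (Tails.exists_slp psi hw (base_mem slp5_ok.2) slp5_ok.1) ord_ok.1 0
  have h : psi q = 1 := MonoidHom.mem_ker.1 (htop ▸ Subgroup.mem_top _)
  rw [h] at hq
  exact ord_ne fun i => hq i

theorem card_ker_le (Γ : Type) [Group Γ] [Finite Γ] (σ : Γ →* T) (hσ : Cfsg.IsStemExtension σ) :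
    Nat.card σ.ker ≤ 1 := by
  have hcard := card_T
  refine Tails.card_ker_le σ hσ one_ne_zero fun p hp hd => ?_
  rw [hcard] at hd
  have hp' : p = 2 ∨ p = 3 ∨ p = 5 ∨ p = 13 := by
    have h1 : p ∣ 2 ^ 11 * 3 ^ 3 * 5 ^ 2 * 13 := hd
    have q : ∀ r : ℕ, r.Prime → p ∣ r → p = r := fun r hr h => (Nat.prime_dvd_prime_iff_eq hp hr).1 h
    simp only [Nat.Prime.dvd_mul hp] at h1
    rcases h1 with ((h1 | h1) | h1) | h1
    · exact Or.inl (q 2 Nat.prime_two (hp.dvd_of_dvd_pow h1))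
    · exact Or.inr (Or.inl (q 3 Nat.prime_three (hp.dvd_of_dvd_pow h1)))
    · exact Or.inr (Or.inr (Or.inl (q 5 Nat.prime_five (hp.dvd_of_dvd_pow h1))))
    · exact Or.inr (Or.inr (Or.inr (q 13 (by norm_num) h1)))
  haveI := Fact.mk hp
  have hord : ∀ j < 1, ∀ m : ℕ, [13].getD j 0 = m → m.Prime → ¬ m ^ 2 ∣ 17971200 →
      (Nat.card σ.ker).factorization m = 0 := by
    intro j hj m hm hmp hm2
    haveI := Fact.mk hmp
    obtain ⟨h1, h2, h3⟩ := ord_ok
    have h := List.all_eq_true.1 h2 j (List.mem_range.2 hj)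
    simp only [Bool.and_eq_true, Bool.not_eq_true', beq_eq_false_iff_ne, beq_iff_eq, hm] at h
    have hmem := Tails.exists_pick psi hw
      (Tails.exists_slp psi hw (base_mem slp5_ok.2) slp5_ok.1) h1 j
    have hd : ordK.getD j (oneK 11 1755) = ordK.getD j 0 := by
      rw [List.getD_eq_getElem _ _ (h3 ▸ hj), List.getD_eq_getElem _ _ (h3 ▸ hj)]
    rw [hd] at hmem
    obtain ⟨q, hq⟩ := Tails.exists_orderOf psi hw psi_injective hmem h.1.1 h.1.2 h.2
    exact Tails.factorization_card_ker_of_orderOf σ hσ q (k := 1) (by rw [hq, pow_one]) (by rwa [hcard])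
  rcases hp' with rfl | rfl | rfl | rfl
  · obtain ⟨hs, hDp, hm, hb, hQ⟩ := cert2_shape
    have hs2 := Tails.exists_slp psi hw (base_mem slp2_ok.2) slp2_ok.1
    have := Tails.factorization_of_perm psi hw psi_injective cert2
      (Tails.exists_pick _ hw hs2 pick2_ok.1) (Tails.exists_pick _ hw hs2 pick2_ok.2)
      cert2_eqs cert2_comb hs rels2_ok.1 rels2_ok.2 (p := 2) hDp hm all2_ok.1 all2_ok.2 inner2_ok.1 inner2_ok.2
      hcard hQ Γ σ hσ
    rwa [hb] at this
  · obtain ⟨hs, hDp, hm, hb, hQ⟩ := cert3_shape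
    have hs3 := Tails.exists_slp psi hw (base_mem slp3_ok.2) slp3_ok.1
    have := Tails.factorization_of_perm psi hw psi_injective cert3
      (Tails.exists_pick _ hw hs3 pick3_ok.1) (Tails.exists_pick _ hw hs3 pick3_ok.2)
      cert3_eqs cert3_comb hs rels3_ok.1 rels3_ok.2 (p := 3) hDp hm all3_ok.1 all3_ok.2 inner3_ok.1 inner3_ok.2
      hcard hQ Γ σ hσ
    rwa [hb] at this
  · obtain ⟨hs, hDp, hm, hb, hQ⟩ := cert5_shape
    have hs5 := Tails.exists_slp psi hw (base_mem slp5_ok.2) slp5_ok.1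
    have := Tails.factorization_of_perm psi hw psi_injective cert5
      (Tails.exists_pick _ hw hs5 pick5_ok.1) (Tails.exists_pick _ hw hs5 pick5_ok.2)
      cert5_eqs cert5_comb hs rels5_ok.1 rels5_ok.2 (p := 5) hDp hm all5_ok.1 all5_ok.2 inner5_ok.1 inner5_ok.2
      hcard hQ Γ σ hσ
    rwa [hb] at this
  · rw [hord 0 (by norm_num) 13 rfl (by norm_num) (by norm_num)]; exact Nat.zero_le _

theorem hasMultiplier : Cfsg.HasCyclicSchurMultiplier T 1 := by
  refine Basic.hasCyclicSchurMultiplier_one_of fun Γ _ _ σ hσ => ?_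
  exact Subgroup.card_eq_one.1 (le_antisymm (card_ker_le Γ σ hσ) Nat.card_pos)

/-- The Tits group. -/
theorem hasMultiplier_tits : Cfsg.HasCyclicSchurMultiplier Cfsg.Lie.TitsGroup 1 := by
  have h := CfsgLib.Chevalley.Twist.F4.transfer CfsgLib.Chevalley.TitsGroup.hK2
    (fun _ G => Cfsg.HasCyclicSchurMultiplier ↥(commutator ↥G) 1) hasMultiplier
  simpa using h

end CfsgLib.Schur.Sporadic.Tits
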